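import Groth.Agent.Surf.K379.Fib
import Groth.Agent.Surf.K464.PtCurve
import Groth.Agent.Surf.K456.FibDiv
import Groth.Agent.IntSh.K877.Dev
import Groth.Agent.LoccohB.HHmap
import Groth.Agent.PerfA.IdealModule
import Groth.Agent.S6540
import Mathlib.LinearAlgebra.Eigenspace.Triangularizable

/-!
# `p_g = 0` when `q = g` for a semistable fibration over a curve of genus zero
-/

set_option autoImplicit false
universe u
open CategoryTheory CategoryTheory.Limits AlgebraicGeometry Opposite TopologicalSpace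

namespace K997.Pg

open Groth.Agent Groth.Agent.Grpsch.PicGrp Groth.Agent.Fga.PicMon
open K464.Base K464.Curves K464.DegCurve K464.Cohom K464.PtCurve Groth.Agent.VarietyA.EulerLES

/-! ### Points of a curve of genus zero -/

section pts

variable (k : Type u) [Field k] [IsAlgClosed k] {C : Scheme.{u}} [C.Over (Spec (CommRingCat.of k))]
  [IsProper (C ↘ Spec (CommRingCat.of k))] [IsIntegral C] (hdim : topologicalKrullDim C = 1)
  (hreg : ∀ c : C, IsRegularLocalRing (C.presheaf.stalk c)) (hg : Curv2.genus k C = 0)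

include k hdim hreg hg in
/-- Closed points of a curve of genus zero are linearly equivalent. -/
theorem nonempty_iso_pt {s s' : C} (hs : IsClosed ({s} : Set C)) (hs' : IsClosed ({s'} : Set C)) :
    Nonempty (ClSub.idealMod (pt hs) ≅ ClSub.idealMod (pt hs')) := by
  have hE : BlowUp.IsEffCartierIdeal (pt hs) := isEff_pt k (C ↘ Spec (CommRingCat.of k)) hdim hreg hs
  have hE' : BlowUp.IsEffCartierIdeal (pt hs') := isEff_pt k (C ↘ Spec (CommRingCat.of k)) hdim hreg hs'
  obtain ⟨L, hL, hc⟩ := exists_mk (ic (pt hs) hE * (ic (pt hs') hE')⁻¹)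
  have hd : degC k C (ic (pt hs) hE * (ic (pt hs') hE')⁻¹) = 0 := by
    rw [degC_mul k C hdim, degC_inv k C hdim, degC_pt k hdim hs, degC_pt k hdim hs']
    norm_num
  rw [hc, degC_mk] at hd
  have h0 : Module.finrank k (Coh.HH C (Coh.structureModule C) 0) = 1 :=
    VarietyA.CurveFin.finrank_h0_structure k C
  have h1 := S6540.result k C hdim h0 hg L hL hd
  rw [← mk_eq_one_iff hL, ← hc, mul_inv_eq_one] at h1
  exact (mk_eq_iff _ _).1 h1

end pts

/-- The vanishing ideal of a closed point. -/
theorem vi_eq {C : Scheme.{u}} (y : C) (hy : IsClosed ({y} : Set C)) :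
    Scheme.IdealSheafData.vanishingIdeal ⟨{y}, hy⟩ = (C.fromSpecResidueField y).ker := by
  have hcl : IsClosedImmersion (C.fromSpecResidueField y) :=
    isClosed_singleton_iff_isClosedImmersion.mp hy
  rw [Ega1.ReducedSub.ker_eq_vanishingIdeal]
  congr 1
  ext1
  change ({y} : Set C) = closure (Set.range (C.fromSpecResidueField y))
  rw [Scheme.range_fromSpecResidueField, hy.closure_eq]

/-! ### `H²` and nonzero maps to the structure sheaf -/

section H2

variable (k : Type u) [Field k] {X : Scheme.{u}} [X.Over (Spec (CommRingCat.of k))]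
  [IsProper (X ↘ Spec (CommRingCat.of k))]

open Fga.HodgeSec in
/-- `H²` of a generically surjective map of coherent modules on an integral surface is surjective. -/
theorem surjective_two [IsIntegral X] (hdim : topologicalKrullDim X ≤ (2 : ℕ)) {L : X.Modules} (hL : Coh.IsCoh L)
    (v : L ⟶ Coh.structureModule X) (hv : v ≠ 0) : Function.Surjective (mapA k v 2) := by
  have := VarietyA.TwistExist.isNoetherian k X
  have hO : Coh.IsCoh (Coh.structureModule X) := isCoh_unit k X
  have hc : Coh.IsCoh (cokernel v) := CohqB.SerTw.isCoh_cokernel v hL.1 hO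
  have hi : Coh.IsCoh (Abelian.image v) := CohqB.SerTw.isCoh_kernel (cokernel.π v) hO hc.1
  have hk : Coh.IsCoh (kernel (Abelian.factorThruImage v)) := CohqB.SerTw.isCoh_kernel _ hL hi.1
  have hne : ¬ IsZero (Abelian.image v) := by
    intro h
    apply hv
    rw [← Abelian.image.fac v, h.eq_zero_of_tgt (Abelian.factorThruImage v), zero_comp]
  have hc' : Coh.IsCoh (cokernel (Abelian.image.ι v)) := CohqB.SerTw.isCoh_cokernel _ hi.1 hO
  have h2 : Subsingleton (Coh.HH X (cokernel (Abelian.image.ι v)) 2) :=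
    subsingleton_HH_two k hdim hc' (IntSh.K877.Dev.not_mem_support_cokernel (Abelian.image.ι v) hne)
  have s1 : (ShortComplex.mk (Abelian.image.ι v) (cokernel.π (Abelian.image.ι v)) (cokernel.condition _)).ShortExact :=
    { exact := ShortComplex.exact_of_g_is_cokernel _ (cokernelIsCokernel _)
      mono_f := inferInstanceAs (Mono (Abelian.image.ι v))
      epi_g := inferInstanceAs (Epi (cokernel.π _)) }
  have s2 : (ShortComplex.mk (kernel.ι (Abelian.factorThruImage v)) (Abelian.factorThruImage v)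
      (kernel.condition _)).ShortExact :=
    { exact := ShortComplex.exact_of_f_is_kernel _ (kernelIsKernel _)
      mono_f := inferInstanceAs (Mono (kernel.ι _))
      epi_g := inferInstanceAs (Epi (Abelian.factorThruImage v)) }
  have h3 : Subsingleton (Coh.HH X (kernel (Abelian.factorThruImage v)) 3) :=
    subsingleton_HH_three k hdim hk 3 (by norm_num)
  have e1 : Function.Surjective (mapA k (Abelian.image.ι v) 2) := fun y =>
    (exactA₂ k _ s1 2 y).mp (h2.elim _ _)
  have e2 : Function.Surjective (mapA k (Abelian.factorThruImage v) 2) := fun y =>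
    (exactA₃ k _ s2 2 3 rfl y).mp (h3.elim _ _)
  have h := e1.comp e2
  rw [← LinearMap.coe_comp, ← mapA_comp, Abelian.image.fac] at h
  exact h

/-- Two maps to the structure sheaf no combination of which vanishes, one of them bijective on `H²`: then `H²` is zero. -/
theorem subsingleton_two [IsAlgClosed k] [IsIntegral X] (hdim : topologicalKrullDim X ≤ (2 : ℕ)) {L : X.Modules}
    (hL : Coh.IsCoh L) (σ₀ σ₁ : L ⟶ Coh.structureModule X) (h0 : Function.Bijective (mapA k σ₀ 2))
    (h : ∀ r : Γ(X, ⊤), σ₁ ≠ σ₀ ≫ LoccohB.HHmap.smulHom _ r) :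
    Subsingleton (Coh.HH X (Coh.structureModule X) 2) := by
  have hfin : Module.Finite k (Coh.HH X L 2) := Fga.HodgeSec.finite_HH' k hL 2
  let e : Coh.HH X L 2 ≃ₗ[k] Coh.HH X (Coh.structureModule X) 2 := LinearEquiv.ofBijective _ h0
  have hfin' : Module.Finite k (Coh.HH X (Coh.structureModule X) 2) := Module.Finite.equiv e
  by_contra hcon
  have hnt : Nontrivial (Coh.HH X L 2) := by
    rw [not_subsingleton_iff_nontrivial] at hcon
    exact e.toEquiv.nontrivial
  let A : Module.End k (Coh.HH X L 2) := e.symm.toLinearMap ∘ₗ mapA k σ₁ 2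
  obtain ⟨t, ht⟩ := Module.End.exists_eigenvalue A
  obtain ⟨x, hx, hx0⟩ := ht.exists_hasEigenvector
  rw [Module.End.mem_eigenspace_iff] at hx
  let r : Γ(X, ⊤) := Coh.toGlobal (X ↘ Spec (CommRingCat.of k)) t
  let τ : L ⟶ Coh.structureModule X := σ₁ - σ₀ ≫ LoccohB.HHmap.smulHom _ r
  have hτ : τ ≠ 0 := fun h' => h r (sub_eq_zero.1 h')
  have hs := surjective_two k hdim hL τ hτ
  have hinj : Function.Injective (mapA k τ 2) := by
    have hs' : Function.Surjective (e.symm.toLinearMap ∘ₗ mapA k τ 2) := e.symm.surjective.comp hs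
    have := LinearMap.injective_iff_surjective.2 hs'
    exact Function.Injective.of_comp this
  apply hx0
  apply hinj
  rw [map_zero]
  have h2 : mapA k τ 2 x = mapA k σ₁ 2 x - t • mapA k σ₀ 2 x := by
    have h3 : mapA k σ₁ 2 x = mapA k τ 2 x + mapA k (σ₀ ≫ LoccohB.HHmap.smulHom _ r) 2 x := by
      have h4 : σ₁ = τ + σ₀ ≫ LoccohB.HHmap.smulHom _ r := by simp [τ]
      have h5 := LinearMap.congr_fun (mapΓ_add τ (σ₀ ≫ LoccohB.HHmap.smulHom _ r) 2) x
      rw [← h4] at h5
      exact h5
    have h6 : mapA k (σ₀ ≫ LoccohB.HHmap.smulHom _ r) 2 x = t • mapA k σ₀ 2 x := by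
      rw [mapA_comp]
      rfl
    rw [h3, h6, add_sub_cancel_right]
  have h7 : mapA k σ₁ 2 x = t • mapA k σ₀ 2 x := by
    have h8 : e.symm (mapA k σ₁ 2 x) = t • x := hx
    rw [LinearEquiv.symm_apply_eq, map_smul] at h8
    exact h8
  rw [h2, h7, sub_self]

end H2

/-- If the two inclusions differ by a scalar, the ideals are contained in each other. -/
theorem le_of_eq_comp {X : Scheme.{u}} {I J : X.IdealSheafData} (e : ClSub.idealMod I ≅ ClSub.idealMod J)
    (r : Γ(X, ⊤)) (h : e.hom ≫ ClSub.idealModι J = ClSub.idealModι I ≫ LoccohB.HHmap.smulHom _ r) : J ≤ I := by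
  rw [Scheme.IdealSheafData.le_def]
  intro A a ha
  obtain ⟨x, hx⟩ := PerfA.IdealModule.exists_val_eq J A ha
  let y : Γ(ClSub.idealMod I, A.1) := e.inv.app A.1 x
  have hy : e.hom.app A.1 y = x := by
    have h0 := congrArg (fun φ : ClSub.idealMod J ⟶ ClSub.idealMod J => φ.app A.1 x) e.inv_hom_id
    exact h0
  have h1 := congrArg (fun φ : ClSub.idealMod I ⟶ Coh.structureModule X => φ.app A.1 y) h
  have h2 : (e.hom ≫ ClSub.idealModι J).app A.1 y = a := by
    rw [← hx]
    change (ClSub.idealModι J).app A.1 (e.hom.app A.1 y) = _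
    rw [hy]
    rfl
  have h3 : (ClSub.idealModι I ≫ LoccohB.HHmap.smulHom _ r).app A.1 y =
      (X.presheaf.map (homOfLE (le_top (a := A.1))).op).hom r * PerfA.IdealModule.val I y := rfl
  have h4 : a = (X.presheaf.map (homOfLE (le_top (a := A.1))).op).hom r * PerfA.IdealModule.val I y :=
    h2.symm.trans (h1.trans h3)
  rw [h4]
  exact Ideal.mul_mem_left _ _ (PerfA.IdealModule.val_mem I A y)

theorem exists_closed_ne (k : Type u) [Field k] {C : Scheme.{u}} [C.Over (Spec (CommRingCat.of k))]
    [LocallyOfFiniteType (C ↘ Spec (CommRingCat.of k))] [IsIntegral C] (hdim : topologicalKrullDim C = 1)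
    {s : C} (hs : IsClosed ({s} : Set C)) : ∃ s' : C, IsClosed ({s'} : Set C) ∧ s' ≠ s := by
  have : JacobsonSpace C := LocallyOfFiniteType.jacobsonSpace (C ↘ Spec (CommRingCat.of k))
  obtain ⟨s', h1, h2⟩ := nonempty_inter_closedPoints (Z := ({s} : Set C)ᶜ) ⟨genericPoint C, fun h =>
    ne_generic hdim hs (Set.mem_singleton_iff.1 h).symm⟩ hs.isOpen_compl.isLocallyClosed
  exact ⟨s', h2, h1⟩

theorem pg (k : Type u) [Field k] [IsAlgClosed k] {X C : Scheme.{u}} [X.Over (Spec (CommRingCat.of k))]
    [C.Over (Spec (CommRingCat.of k))] (f : X ⟶ C) (g : ℕ) (h : K379.Fib.IsFib k f g) (hC0 : Curv2.genus k C = 0)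
    (s : C) (hs : IsClosed ({s} : Set C))
    (h1 : Module.finrank k (Coh.HH X (Coh.structureModule X) 1) =
      Module.finrank k (Coh.HH X (ClSub.quotMod (f.fiberι s).ker) 1))
    (hH : Subsingleton (Coh.HH X (ClSub.idealMod (f.fiberι s).ker) 1)) :
    Subsingleton (Coh.HH X (Coh.structureModule X) 2) := by
  have := h.pX
  have := h.sX
  have := h.iX
  have := h.pC
  have := h.sC
  have := h.iC
  have := h.sur
  have hN : IsNoetherian X := VarietyA.TwistExist.isNoetherian k X
  have hNC : IsNoetherian C := VarietyA.TwistExist.isNoetherian k C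
  have hdX : topologicalKrullDim X ≤ (2 : ℕ) := h.dX.le
  have hreg : ∀ c : C, IsRegularLocalRing (C.presheaf.stalk c) := K456.FibDiv.isRegular_of_smooth (C ↘ Spec (CommRingCat.of k))
  obtain ⟨s', hs', hne⟩ := exists_closed_ne k h.dC hs
  have hcl : IsClosedImmersion (C.fromSpecResidueField s) := isClosed_singleton_iff_isClosedImmersion.mp hs
  have hcl' : IsClosedImmersion (C.fromSpecResidueField s') := isClosed_singleton_iff_isClosedImmersion.mp hs'
  obtain ⟨a⟩ := K456.FibDiv.pullback_ideal_point f s h.dC hreg hs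
  obtain ⟨a'⟩ := K456.FibDiv.pullback_ideal_point f s' h.dC hreg hs'
  obtain ⟨b⟩ := nonempty_iso_pt k h.dC hreg hC0 hs hs'
  have e1 : pt hs = (C.fromSpecResidueField s).ker := vi_eq s hs
  have e2 : pt hs' = (C.fromSpecResidueField s').ker := vi_eq s' hs'
  rw [e1, e2] at b
  let e : ClSub.idealMod (f.fiberι s).ker ≅ ClSub.idealMod (f.fiberι s').ker :=
    a.symm ≪≫ (Scheme.Modules.pullback f).mapIso b ≪≫ a'
  have hL : Coh.IsCoh (ClSub.idealMod (f.fiberι s).ker) := VarietyB.DegCartier.isCoh_idealMod _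
  have hQ : Coh.IsCoh (ClSub.quotMod (f.fiberι s).ker) := VarietyB.DegCartier.isCoh_quotMod _
  have hO : Coh.IsCoh (Coh.structureModule X) := isCoh_unit k X
  have hS := VarietyB.DegCartier.idealSeq_shortExact (f.fiberι s).ker
  have hgen : genericPoint X ∉ CohB1.support (ClSub.quotMod (f.fiberι s).ker) := by
    intro hx
    have h2 := VarietyB.DegCartier.support_quotMod_subset _ hx
    have h3 := (K456.FibDiv.mem_support_fiber f s _).1 h2
    rw [K456.FibDiv.gp_eq f] at h3
    exact ne_generic h.dC hs h3.symm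
  have hQ2 : Subsingleton (Coh.HH X (ClSub.quotMod (f.fiberι s).ker) 2) :=
    Fga.HodgeSec.subsingleton_HH_two k hdX hQ hgen
  -- `H²(σ₀)` is bijective
  have hbij : Function.Bijective (mapA k (ClSub.idealModι (f.fiberι s).ker) 2) := by
    constructor
    · have f1 : Module.Finite k (Coh.HH X (Coh.structureModule X) 1) := Fga.HodgeSec.finite_HH' k hO 1
      have f2 : Module.Finite k (Coh.HH X (ClSub.quotMod (f.fiberι s).ker) 1) := Fga.HodgeSec.finite_HH' k hQ 1
      have i1 : Function.Injective (mapA k (ClSub.toSubscheme (f.fiberι s).ker) 1) := by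
        rw [injective_iff_map_eq_zero]
        intro x hx
        obtain ⟨y, rfl⟩ := (exactA₂ k _ hS 1 x).1 hx
        have hy0 : y = 0 := hH.elim y 0
        rw [hy0]
        exact map_zero _
      have i2 : Function.Surjective (mapA k (ClSub.toSubscheme (f.fiberι s).ker) 1) :=
        (LinearMap.injective_iff_surjective_of_finrank_eq_finrank h1).1 i1
      rw [injective_iff_map_eq_zero]
      intro x hx
      obtain ⟨y, rfl⟩ := (exactA₁ k _ hS 1 2 rfl x).1 hx
      obtain ⟨z, rfl⟩ := i2 y
      exact (exactA₃ k _ hS 1 2 rfl _).2 ⟨z, rfl⟩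
    · intro y
      exact (exactA₂ k _ hS 2 y).1 (hQ2.elim _ _)
  refine subsingleton_two k hdX hL (ClSub.idealModι (f.fiberι s).ker) (e.hom ≫ ClSub.idealModι (f.fiberι s').ker) hbij ?_
  intro r hr
  have h2 := le_of_eq_comp e r hr
  have h3 := Scheme.IdealSheafData.support_antitone h2
  obtain ⟨x, hx⟩ := h.sur.surj s
  have h4 := h3 ((K456.FibDiv.mem_support_fiber f s x).2 hx)
  have h5 := (K456.FibDiv.mem_support_fiber f s' x).1 h4
  exact hne (h5.symm.trans hx)

end K997.Pg
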